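import Groth.Agent.TorBalLib.Basic

/-! Natural symmetry of `Tor` for modules over a commutative ring. -/

set_option autoImplicit false
set_option linter.style.haveILetI false

universe v v' u u'

open CategoryTheory CategoryTheory.Limits HomologicalComplex MonoidalCategory

namespace TorFlipLib

section extend

variable {C : Type u} [Category.{v} C] [Abelian C] {D : Type u'} [Category.{v'} D] [Abelian D]
  (S T : C ⥤ D) [S.Additive] [T.Additive]

omit [S.Additive] [T.Additive] in
theorem map_aux {X X' Y Y' : C} {Z Z' : D} (x : X ≅ X') (y : Y ≅ Y') (g : X' ⟶ Y')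
    (a : Z ≅ S.obj X') (b : Z' ≅ S.obj Y') :
    S.map (x.hom ≫ g ≫ y.inv) ≫ S.map y.hom ≫ b.inv =
      (S.map x.hom ≫ a.inv) ≫ a.hom ≫ S.map g ≫ b.inv := by
  simp

omit [S.Additive] [T.Additive] in
theorem app_aux (α : S ⟶ T) {X X' : C} {Z Z' : D} (x : X ≅ X')
    (a : Z ≅ S.obj X') (b : Z' ≅ T.obj X') :
    α.app X ≫ T.map x.hom ≫ b.inv =
      (S.map x.hom ≫ a.inv) ≫ a.hom ≫ α.app X' ≫ b.inv := by
  simp

theorem mapExtendIso_natural {K L : ChainComplex C ℕ} (g : K ⟶ L) :
    (S.mapHomologicalComplex _).map (extendMap g ComplexShape.embeddingDownNat) ≫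
        (TorBalLib.mapExtendIso S L).hom =
      (TorBalLib.mapExtendIso S K).hom ≫
        extendMap ((S.mapHomologicalComplex _).map g) ComplexShape.embeddingDownNat := by
  ext n
  by_cases h : n ≤ 0
  · have hi : ComplexShape.embeddingDownNat.f (-n).toNat = n := by simp; lia
    have e1 := extendMap_f g ComplexShape.embeddingDownNat hi
    have e2 := extendMap_f ((S.mapHomologicalComplex _).map g) ComplexShape.embeddingDownNat hi
    simp only [HomologicalComplex.comp_f, Functor.mapHomologicalComplex_map_f,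
      TorBalLib.mapExtendIso, Hom.isoOfComponents_hom_f, TorBalLib.mapExtendXIso, dif_pos h,
      Iso.trans_hom, Iso.symm_hom, Functor.mapIso_hom]
    rw [e1, e2]
    exact map_aux S _ _ _ _ _
  · exact (((S.mapHomologicalComplex _).obj L).isZero_extend_X ComplexShape.embeddingDownNat n
      (by intro i hi; simp at hi; lia)).eq_of_tgt _ _

theorem mapExtendIso_natTrans (α : S ⟶ T) (K : ChainComplex C ℕ) :
    (NatTrans.mapHomologicalComplex α _).app (K.extend ComplexShape.embeddingDownNat) ≫
        (TorBalLib.mapExtendIso T K).hom =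
      (TorBalLib.mapExtendIso S K).hom ≫
        extendMap ((NatTrans.mapHomologicalComplex α _).app K) ComplexShape.embeddingDownNat := by
  ext n
  by_cases h : n ≤ 0
  · have hi : ComplexShape.embeddingDownNat.f (-n).toNat = n := by simp; lia
    have e2 := extendMap_f ((NatTrans.mapHomologicalComplex α _).app K)
      ComplexShape.embeddingDownNat hi
    simp only [HomologicalComplex.comp_f, NatTrans.mapHomologicalComplex_app_f,
      TorBalLib.mapExtendIso, Hom.isoOfComponents_hom_f, TorBalLib.mapExtendXIso, dif_pos h,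
      Iso.trans_hom, Iso.symm_hom, Functor.mapIso_hom]
    rw [e2]
    exact app_aux S T α _ _ _
  · exact (((T.mapHomologicalComplex _).obj K).isZero_extend_X ComplexShape.embeddingDownNat n
      (by intro i hi; simp at hi; lia)).eq_of_tgt _ _

variable [HasProjectiveResolutions C] {X Y : C}

/-- Left derived functors via cochain complexes indexed by `ℤ`. -/
noncomputable def toH (P : ProjectiveResolution X) (n : ℕ) :
    (S.leftDerived n).obj X ≅
      ((S.mapHomologicalComplex (ComplexShape.up ℤ)).obj P.cochainComplex).homology (-(n : ℤ)) :=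
  P.isoLeftDerivedObj S n ≪≫
    (HomologicalComplex.extendHomologyIso ((S.mapHomologicalComplex _).obj P.complex)
      ComplexShape.embeddingDownNat (j := n) (j' := -(n : ℤ)) (by simp)).symm ≪≫
    (HomologicalComplex.homologyFunctor D (ComplexShape.up ℤ) (-(n : ℤ))).mapIso
      (TorBalLib.mapExtendIso S P.complex).symm

theorem toH_aux {K L : ChainComplex D ℕ} (u : K ⟶ L) {K' L' : CochainComplex D ℤ} (U : K' ⟶ L')
    (eK : K' ≅ K.extend ComplexShape.embeddingDownNat)
    (eL : L' ≅ L.extend ComplexShape.embeddingDownNat)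
    (hU : U ≫ eL.hom = eK.hom ≫ extendMap u ComplexShape.embeddingDownNat) (n : ℕ) :
    homologyMap u n ≫
        (HomologicalComplex.extendHomologyIso L ComplexShape.embeddingDownNat (j := n)
          (j' := -(n : ℤ)) (by simp)).inv ≫ homologyMap eL.inv (-(n : ℤ)) =
      (HomologicalComplex.extendHomologyIso K ComplexShape.embeddingDownNat (j := n)
          (j' := -(n : ℤ)) (by simp)).inv ≫ homologyMap eK.inv (-(n : ℤ)) ≫
        homologyMap U (-(n : ℤ)) := by
  have h := HomologicalComplex.extendHomologyIso_hom_naturality u ComplexShape.embeddingDownNat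
    (j := n) (j' := -(n : ℤ)) (by simp)
  have hU' : eK.inv ≫ U = extendMap u ComplexShape.embeddingDownNat ≫ eL.inv := by
    rw [Iso.inv_comp_eq, ← Category.assoc, Iso.eq_comp_inv, hU]
  rw [← homologyMap_comp, hU', homologyMap_comp, Iso.eq_inv_comp, ← reassoc_of% h, Iso.hom_inv_id_assoc]

theorem toH_map {P : ProjectiveResolution X} {Q : ProjectiveResolution Y} {f : X ⟶ Y}
    (φ : ProjectiveResolution.Hom P Q f) (n : ℕ) :
    (S.leftDerived n).map f ≫ (toH S Q n).hom =
      (toH S P n).hom ≫
        homologyMap ((S.mapHomologicalComplex (ComplexShape.up ℤ)).map φ.hom') (-(n : ℤ)) := by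
  have h := P.isoLeftDerivedObj_hom_naturality f Q φ.hom
    (φ.hom_f_zero_comp_π_f_zero.trans (congrArg (_ ≫ ·) (ChainComplex.single₀_map_f_zero f))) S n
  dsimp only [toH, Iso.trans_hom, Iso.symm_hom, Functor.mapIso_hom, Functor.mapIso_inv]
  rw [reassoc_of% h]
  simp only [Category.assoc]
  exact congrArg _ (toH_aux _ _ _ _ (mapExtendIso_natural S φ.hom) n)

theorem toH_app (α : S ⟶ T) (P : ProjectiveResolution X) (n : ℕ) :
    (NatTrans.leftDerived α n).app X ≫ (toH T P n).hom =
      (toH S P n).hom ≫ homologyMap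
        ((NatTrans.mapHomologicalComplex α (ComplexShape.up ℤ)).app P.cochainComplex) (-(n : ℤ)) := by
  dsimp only [toH, Iso.trans_hom, Iso.symm_hom, Functor.mapIso_hom, Functor.mapIso_inv]
  rw [ProjectiveResolution.leftDerived_app_eq α P n]
  simp only [Category.assoc, Iso.inv_hom_id_assoc]
  exact congrArg _ (toH_aux _ _ _ _ (mapExtendIso_natTrans S T α P.complex) n)

end extend

section modules

open KFlatLib (tT tMap ιT)

variable {R : Type u} [CommRing R]

local notation "𝐂" => CochainComplex (ModuleCat R) ℤ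

/-- The complex concentrated in degree zero. -/
noncomputable abbrev sg : ModuleCat.{u} R ⥤ CochainComplex (ModuleCat.{u} R) ℤ :=
  CochainComplex.singleFunctor (ModuleCat.{u} R) 0

/-- Identification in degree zero. -/
noncomputable abbrev eS (M : ModuleCat.{u} R) : ((sg).obj M).X 0 ≅ M :=
  singleObjXSelf (ComplexShape.up ℤ) 0 M

theorem sg_isZero (M : ModuleCat.{u} R) (p : ℤ) (hp : p ≠ 0) : IsZero (((sg).obj M).X p) :=
  isZero_single_obj_X (ComplexShape.up ℤ) 0 M p hp

theorem sg_map_zero {M M' : ModuleCat.{u} R} (f : M ⟶ M') :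
    (eS M).inv ≫ ((sg).map f).f 0 = f ≫ (eS M').inv := by
  refine (congrArg ((eS M).inv ≫ ·) (single_map_f_self (ComplexShape.up ℤ) 0 f)).trans ?_
  exact Iso.inv_hom_id_assoc _ _

theorem tMap_comp {A A' A'' B B' B'' : CochainComplex (ModuleCat.{u} R) ℤ} (f : A ⟶ A')
    (f' : A' ⟶ A'') (g : B ⟶ B') (g' : B' ⟶ B'') :
    tMap f g ≫ tMap f' g' = tMap (f ≫ f') (g ≫ g') := by
  refine HomologicalComplex.hom_ext _ _ fun n => ?_
  refine mapBifunctor.hom_ext fun p q h => ?_
  refine ((Category.assoc _ _ _).symm.trans (congrArg (· ≫ (tMap f' g').f n)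
    (KFlatLib.ιT_tMap f g p q n h))).trans ?_
  refine ((Category.assoc _ _ _).trans (congrArg (_ ≫ ·) (KFlatLib.ιT_tMap f' g' p q n h))).trans ?_
  refine Eq.trans ?_ (KFlatLib.ιT_tMap (f ≫ f') (g ≫ g') p q n h).symm
  rw [HomologicalComplex.comp_f, HomologicalComplex.comp_f, ← Category.assoc,
    MonoidalCategory.tensorHom_comp_tensorHom]

/-- `M ⊗ B ⟶ M[0] ⊗ B`. -/
noncomputable def uL (M : ModuleCat.{u} R) (B : CochainComplex (ModuleCat.{u} R) ℤ) :
    ((tensorLeft M).mapHomologicalComplex (ComplexShape.up ℤ)).obj B ⟶ tT ((sg).obj M) B where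
  f n := ((eS M).inv ▷ B.X n) ≫ ιT ((sg).obj M) B 0 n n (zero_add n)
  comm' n n' hn := by
    obtain rfl : n + 1 = n' := hn
    have hd : ((sg).obj M).d 0 (0 + 1) = 0 := (sg_isZero M _ (by omega)).eq_of_tgt _ _
    have h := KFlatLib.ιT_d ((sg).obj M) B 0 n n (n + 1) (zero_add n) rfl
    rw [hd, MonoidalPreadditive.zero_whiskerRight, zero_comp, zero_add, Int.negOnePow_zero,
      one_smul] at h
    change ((eS M).inv ▷ B.X n ≫ ιT _ _ 0 n n _) ≫ (tT ((sg).obj M) B).d n (n + 1) =
      (M ◁ B.d n (n + 1)) ≫ (eS M).inv ▷ B.X (n + 1) ≫ ιT _ _ 0 (n + 1) (n + 1) _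
    rw [Category.assoc, whisker_exchange_assoc (eS M).inv (B.d n (n + 1))]
    exact congrArg _ h

/-- `N ⊗ A ⟶ A ⊗ N[0]`. -/
noncomputable def uR (N : ModuleCat.{u} R) (A : CochainComplex (ModuleCat.{u} R) ℤ) :
    ((tensorLeft N).mapHomologicalComplex (ComplexShape.up ℤ)).obj A ⟶ tT A ((sg).obj N) where
  f n := (β_ N (A.X n)).hom ≫ (A.X n ◁ (eS N).inv) ≫ ιT A ((sg).obj N) n 0 n (add_zero n)
  comm' n n' hn := by
    obtain rfl : n + 1 = n' := hn
    have hd : ((sg).obj N).d 0 (0 + 1) = 0 := (sg_isZero N _ (by omega)).eq_of_tgt _ _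
    have h := KFlatLib.ιT_d A ((sg).obj N) n 0 n (n + 1) (add_zero n) rfl
    rw [hd, MonoidalPreadditive.whiskerLeft_zero, zero_comp, smul_zero, add_zero] at h
    change ((β_ N (A.X n)).hom ≫ A.X n ◁ (eS N).inv ≫ ιT _ _ n 0 n _) ≫
        (tT A ((sg).obj N)).d n (n + 1) =
      (N ◁ A.d n (n + 1)) ≫ (β_ N (A.X (n + 1))).hom ≫ A.X (n + 1) ◁ (eS N).inv ≫
        ιT _ _ (n + 1) 0 (n + 1) _
    rw [BraidedCategory.braiding_naturality_right_assoc, ← whisker_exchange_assoc]
    simp only [Category.assoc]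
    exact congrArg _ (congrArg _ h)

theorem isIso_uL (M : ModuleCat.{u} R) (B : CochainComplex (ModuleCat.{u} R) ℤ) :
    IsIso (uL M B) := by
  have h : ∀ n, IsIso ((uL M B).f n) := fun n => by
    have : IsIso (ιT ((sg).obj M) B 0 n n (zero_add n)) := by
      refine ⟨KFlatLib.proj 0 n n (zero_add n), KFlatLib.ιT_proj _ _ _ _, ?_⟩
      refine mapBifunctor.hom_ext fun p q h => ?_
      by_cases hp : p = 0
      · subst hp
        obtain rfl : q = n := by
          have : (0 : ℤ) + q = n := h
          omega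
        rw [← Category.assoc]
        exact (congrArg (· ≫ ιT _ _ 0 q q _) (KFlatLib.ιT_proj _ _ _ _)).trans
          ((Category.id_comp _).trans (Category.comp_id _).symm)
      · exact ((tensorRight (B.X q)).map_isZero (sg_isZero M p hp)).eq_of_src _ _
    change IsIso (((eS M).inv ▷ B.X n) ≫ ιT _ _ 0 n n _)
    infer_instance
  exact HomologicalComplex.Hom.isIso_of_components _

theorem isIso_uR (N : ModuleCat.{u} R) (A : CochainComplex (ModuleCat.{u} R) ℤ) :
    IsIso (uR N A) := by
  have h : ∀ n, IsIso ((uR N A).f n) := fun n => by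
    have : IsIso (ιT A ((sg).obj N) n 0 n (add_zero n)) := by
      refine ⟨KFlatLib.proj n 0 n (add_zero n), KFlatLib.ιT_proj _ _ _ _, ?_⟩
      refine mapBifunctor.hom_ext fun p q h => ?_
      by_cases hq : q = 0
      · subst hq
        obtain rfl : p = n := by
          have : p + (0 : ℤ) = n := h
          omega
        rw [← Category.assoc]
        exact (congrArg (· ≫ ιT _ _ p 0 p _) (KFlatLib.ιT_proj _ _ _ _)).trans
          ((Category.id_comp _).trans (Category.comp_id _).symm)
      · exact ((tensorLeft (A.X p)).map_isZero (sg_isZero N q hq)).eq_of_src _ _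
    change IsIso ((β_ N (A.X n)).hom ≫ (A.X n ◁ (eS N).inv) ≫ ιT _ _ n 0 n _)
    infer_instance
  exact HomologicalComplex.Hom.isIso_of_components _

theorem uL_natural {M M' : ModuleCat.{u} R} (f : M ⟶ M')
    {B B' : CochainComplex (ModuleCat.{u} R) ℤ} (g : B ⟶ B') :
    (NatTrans.mapHomologicalComplex ((tensoringLeft _).map f) (ComplexShape.up ℤ)).app B ≫
      ((tensorLeft M').mapHomologicalComplex (ComplexShape.up ℤ)).map g ≫ uL M' B' =
    uL M B ≫ tMap ((sg).map f) g := by
  refine HomologicalComplex.hom_ext _ _ fun n => ?_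
  change (f ▷ B.X n) ≫ (M' ◁ g.f n) ≫ ((eS M').inv ▷ B'.X n) ≫ ιT _ _ 0 n n _ =
    (((eS M).inv ▷ B.X n) ≫ ιT _ _ 0 n n _) ≫ (tMap ((sg).map f) g).f n
  rw [Category.assoc, KFlatLib.ιT_tMap, MonoidalCategory.tensorHom_def, Category.assoc,
    ← comp_whiskerRight_assoc, sg_map_zero, comp_whiskerRight_assoc,
    whisker_exchange_assoc (eS M').inv (g.f n)]

theorem uR_natural {N N' : ModuleCat.{u} R} (g : N ⟶ N')
    {A A' : CochainComplex (ModuleCat.{u} R) ℤ} (f : A ⟶ A') :
    (NatTrans.mapHomologicalComplex ((tensoringLeft _).map g) (ComplexShape.up ℤ)).app A ≫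
      ((tensorLeft N').mapHomologicalComplex (ComplexShape.up ℤ)).map f ≫ uR N' A' =
    uR N A ≫ tMap f ((sg).map g) := by
  refine HomologicalComplex.hom_ext _ _ fun n => ?_
  change (g ▷ A.X n) ≫ (N' ◁ f.f n) ≫ (β_ N' (A'.X n)).hom ≫ (A'.X n ◁ (eS N').inv) ≫
      ιT _ _ n 0 n _ =
    ((β_ N (A.X n)).hom ≫ (A.X n ◁ (eS N).inv) ≫ ιT _ _ n 0 n _) ≫ (tMap f ((sg).map g)).f n
  rw [BraidedCategory.braiding_naturality_right_assoc,
    BraidedCategory.braiding_naturality_left_assoc]
  simp only [Category.assoc]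
  rw [KFlatLib.ιT_tMap, MonoidalCategory.tensorHom_def', Category.assoc, ← whiskerLeft_comp_assoc, sg_map_zero,
    whiskerLeft_comp_assoc, ← whisker_exchange_assoc]

/-- A commutative square with invertible horizontal maps. -/
def Sq {X Y X' Y' : ModuleCat.{u} R} (a : X ≅ Y) (a' : X' ≅ Y') (s : X ⟶ X') (t : Y ⟶ Y') : Prop :=
  s ≫ a'.hom = a.hom ≫ t

theorem Sq.trans {X Y Z X' Y' Z' : ModuleCat.{u} R} {a : X ≅ Y} {a' : X' ≅ Y'} {b : Y ≅ Z}
    {b' : Y' ≅ Z'} {s : X ⟶ X'} {t : Y ⟶ Y'} {w : Z ⟶ Z'} (h : Sq a a' s t) (k : Sq b b' t w) :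
    Sq (a ≪≫ b) (a' ≪≫ b') s w := by
  unfold Sq at h k ⊢
  rw [Iso.trans_hom, Iso.trans_hom, reassoc_of% h, k, Category.assoc]

theorem Sq.symm {X Y X' Y' : ModuleCat.{u} R} {a : X ≅ Y} {a' : X' ≅ Y'} {s : X ⟶ X'}
    {t : Y ⟶ Y'} (h : Sq a a' s t) : Sq a.symm a'.symm t s := by
  unfold Sq at h ⊢
  rw [Iso.symm_hom, Iso.symm_hom, Iso.comp_inv_eq, Category.assoc, h, Iso.inv_hom_id_assoc]

/-- Lift of a map to the chosen projective resolutions. -/
noncomputable def liftHom {M M' : ModuleCat.{u} R} (f : M ⟶ M') :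
    ProjectiveResolution.Hom (projectiveResolution M) (projectiveResolution M') f where
  hom := ProjectiveResolution.lift f (projectiveResolution M) (projectiveResolution M')
  hom_f_zero_comp_π_f_zero := by
    rw [← HomologicalComplex.comp_f, ProjectiveResolution.lift_commutes, HomologicalComplex.comp_f]

section iso

variable (M N : ModuleCat.{u} R) (n : ℕ)

/-- The complex `P_M`. -/
noncomputable abbrev cx : CochainComplex (ModuleCat.{u} R) ℤ :=
  (projectiveResolution M).cochainComplex

/-- `M ⊗ P_N ≅ M[0] ⊗ P_N`. -/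
noncomputable def isoL : homology (((tensorLeft M).mapHomologicalComplex (ComplexShape.up ℤ)).obj (cx N))
      (-(n : ℤ)) ≅ homology (tT ((sg).obj M) (cx N)) (-(n : ℤ)) :=
  haveI := isIso_uL M (cx N)
  (HomologicalComplex.homologyFunctor _ _ _).mapIso (asIso (uL M (cx N)))

/-- `N ⊗ P_M ≅ P_M ⊗ N[0]`. -/
noncomputable def isoR : homology (((tensorLeft N).mapHomologicalComplex (ComplexShape.up ℤ)).obj (cx M))
      (-(n : ℤ)) ≅ homology (tT (cx M) ((sg).obj N)) (-(n : ℤ)) :=
  haveI := isIso_uR N (cx M)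
  (HomologicalComplex.homologyFunctor _ _ _).mapIso (asIso (uR N (cx M)))

/-- Augmenting the first factor. -/
noncomputable def isoA : homology (tT (cx M) (cx N)) (-(n : ℤ)) ≅
      homology (tT ((sg).obj M) (cx N)) (-(n : ℤ)) :=
  haveI := KFlatLib.quasiIso_tMap_right
    (Groth.Agent.DRingLib.isKFlat_projectiveResolution (projectiveResolution N))
    (projectiveResolution M).π'
  asIso (homologyMap (tMap (projectiveResolution M).π' (𝟙 (cx N))) (-(n : ℤ)))

/-- Augmenting the second factor. -/
noncomputable def isoB : homology (tT (cx M) (cx N)) (-(n : ℤ)) ≅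
      homology (tT (cx M) ((sg).obj N)) (-(n : ℤ)) :=
  haveI := KFlatLib.quasiIso_tMap_left
    (Groth.Agent.DRingLib.isKFlat_projectiveResolution (projectiveResolution M))
    (projectiveResolution N).π'
  asIso (homologyMap (tMap (𝟙 (cx M)) (projectiveResolution N).π') (-(n : ℤ)))

/-- The symmetry of `Tor`. -/
noncomputable def flipIso : ((Tor (ModuleCat.{u} R) n).obj M).obj N ≅
    ((Tor (ModuleCat.{u} R) n).obj N).obj M :=
  toH (tensorLeft M) (projectiveResolution N) n ≪≫ isoL M N n ≪≫ (isoA M N n).symm ≪≫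
    isoB M N n ≪≫ (isoR M N n).symm ≪≫ (toH (tensorLeft N) (projectiveResolution M) n).symm

end iso

theorem flipIso_natural {M M' N N' : ModuleCat.{u} R} (f : M ⟶ M') (g : N ⟶ N') (n : ℕ) :
    (((Tor (ModuleCat.{u} R) n).map f).app N ≫ ((Tor (ModuleCat.{u} R) n).obj M').map g) ≫
        (flipIso M' N' n).hom =
      (flipIso M N n).hom ≫
        (((Tor (ModuleCat.{u} R) n).map g).app M ≫ ((Tor (ModuleCat.{u} R) n).obj N').map f) := by
  have s1 : ∀ {A A' : ModuleCat.{u} R} {B B' : ModuleCat.{u} R} (a : A ⟶ A') (b : B ⟶ B'),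
      Sq (toH (tensorLeft A) (projectiveResolution B) n)
        (toH (tensorLeft A') (projectiveResolution B') n)
        (((Tor (ModuleCat.{u} R) n).map a).app B ≫ ((Tor (ModuleCat.{u} R) n).obj A').map b)
        (homologyMap ((NatTrans.mapHomologicalComplex ((tensoringLeft _).map a)
            (ComplexShape.up ℤ)).app (cx B) ≫
          ((tensorLeft A').mapHomologicalComplex (ComplexShape.up ℤ)).map (liftHom b).hom')
          (-(n : ℤ))) := by
    intro A A' B B' a b
    change ((NatTrans.leftDerived ((tensoringLeft _).map a) n).app B ≫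
      (Functor.leftDerived (tensorLeft A') n).map b) ≫ _ = _
    rw [Category.assoc, toH_map _ (liftHom b), homologyMap_comp]
    exact ((Category.assoc _ _ _).symm.trans (congrArg
      (· ≫ homologyMap (((tensorLeft A').mapHomologicalComplex (ComplexShape.up ℤ)).map
        (liftHom b).hom') (-(n : ℤ))) (toH_app _ _ _ _ _))).trans (Category.assoc _ _ _)
  have s2 : Sq (isoL M N n) (isoL M' N' n)
      (homologyMap ((NatTrans.mapHomologicalComplex ((tensoringLeft _).map f)
          (ComplexShape.up ℤ)).app (cx N) ≫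
        ((tensorLeft M').mapHomologicalComplex (ComplexShape.up ℤ)).map (liftHom g).hom')
        (-(n : ℤ)))
      (homologyMap (tMap ((sg).map f) (liftHom g).hom') (-(n : ℤ))) := by
    change _ ≫ homologyMap (uL M' (cx N')) _ = homologyMap (uL M (cx N)) _ ≫ _
    rw [← homologyMap_comp, ← homologyMap_comp, Category.assoc, uL_natural]
  have s5 : Sq (isoR M N n) (isoR M' N' n)
      (homologyMap ((NatTrans.mapHomologicalComplex ((tensoringLeft _).map g)
          (ComplexShape.up ℤ)).app (cx M) ≫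
        ((tensorLeft N').mapHomologicalComplex (ComplexShape.up ℤ)).map (liftHom f).hom')
        (-(n : ℤ)))
      (homologyMap (tMap (liftHom f).hom' ((sg).map g)) (-(n : ℤ))) := by
    change _ ≫ homologyMap (uR N' (cx M')) _ = homologyMap (uR N (cx M)) _ ≫ _
    rw [← homologyMap_comp, ← homologyMap_comp, Category.assoc, uR_natural]
  have s3 : Sq (isoA M N n) (isoA M' N' n)
      (homologyMap (tMap (liftHom f).hom' (liftHom g).hom') (-(n : ℤ)))
      (homologyMap (tMap ((sg).map f) (liftHom g).hom') (-(n : ℤ))) := by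
    change _ ≫ homologyMap (tMap (projectiveResolution M').π' (𝟙 (cx N'))) _ =
      homologyMap (tMap (projectiveResolution M).π' (𝟙 (cx N))) _ ≫ _
    rw [← homologyMap_comp, ← homologyMap_comp, tMap_comp, tMap_comp]
    refine congrArg (fun x => homologyMap x (-(n : ℤ))) ?_
    rw [(liftHom f).hom'_comp_π', Category.comp_id, Category.id_comp]
  have s4 : Sq (isoB M N n) (isoB M' N' n)
      (homologyMap (tMap (liftHom f).hom' (liftHom g).hom') (-(n : ℤ)))
      (homologyMap (tMap (liftHom f).hom' ((sg).map g)) (-(n : ℤ))) := by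
    change _ ≫ homologyMap (tMap (𝟙 (cx M')) (projectiveResolution N').π') _ =
      homologyMap (tMap (𝟙 (cx M)) (projectiveResolution N).π') _ ≫ _
    rw [← homologyMap_comp, ← homologyMap_comp, tMap_comp, tMap_comp]
    refine congrArg (fun x => homologyMap x (-(n : ℤ))) ?_
    rw [(liftHom g).hom'_comp_π', Category.comp_id, Category.id_comp]
  exact (s1 f g).trans (s2.trans (s3.symm.trans (s4.trans (s5.symm.trans (s1 g f).symm))))

/-- `Tor` is symmetric, naturally in both variables. -/
theorem nonempty_tor_iso_flip (n : ℕ) :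
    Nonempty (Tor (ModuleCat.{u} R) n ≅ (Tor (ModuleCat.{u} R) n).flip) := by
  refine ⟨NatIso.ofComponents (fun M => NatIso.ofComponents (fun N => flipIso M N n) ?_) ?_⟩
  · intro N N' g
    have h := flipIso_natural (𝟙 M) g n
    simp only [CategoryTheory.Functor.map_id, NatTrans.id_app, Category.id_comp,
      Category.comp_id] at h
    exact h
  · intro M M' f
    ext N : 2
    have h := flipIso_natural f (𝟙 N) n
    simp only [CategoryTheory.Functor.map_id, NatTrans.id_app, Category.id_comp,
      Category.comp_id] at h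
    exact h

end modules

end TorFlipLib
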